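import Mathlib
import Cfsg.Agent.Lib.Helper32.Scn.Tools
import Cfsg.Agent.Lib.Helper87.PGroupFrattini

/-!
# S1904 package [S2]: recognition of alternative 2 (special of order 64 with three involutions).
-/

set_option autoImplicit false

universe u

namespace Cfsg.Agent.Lib.Helper37.Scn

open Cfsg.Agent.Lib.Helper32.Scn

/-- `orderOf x = 2` in terms of `x * x = 1` -/
theorem orderOf_eq_two_iff' {X : Type u} [Group X] (x : X) :
    orderOf x = 2 ↔ x * x = 1 ∧ x ≠ 1 := by
  constructor
  · intro h
    refine ⟨?_, ?_⟩
    · rw [← pow_two, ← h]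
      exact pow_orderOf_eq_one x
    · intro h1
      rw [h1, orderOf_one] at h
      omega
  · rintro ⟨h2, h1⟩
    have hd : orderOf x ∣ 2 := orderOf_dvd_of_pow_eq_one (by rw [pow_two]; exact h2)
    rcases (Nat.dvd_prime Nat.prime_two).mp hd with h | h
    · exact absurd (orderOf_eq_one_iff.mp h) h1
    · exact h

/-- Package [S2] of S1904. -/
theorem lemAlt2 : LemAlt2.{u} := by
  intro X _ _ hX hcard hV hcen hsq hcomm hder hinv
  haveI : Fact (Nat.Prime 2) := ⟨Nat.prime_two⟩
  -- the centre
  have hcenter : Subgroup.center X = omZ X :=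
    le_antisymm (fun z hz => hcen z hz) (fun z hz => hz.1)
  -- the commutator subgroup
  have hcommutator : commutator X = omZ X := by
    apply le_antisymm
    · rw [commutator_eq_closure, Subgroup.closure_le]
      rintro g ⟨g₁, g₂, rfl⟩
      rw [commutatorElement_def]
      exact hcomm g₁ g₂
    · exact fun v hv => hder v hv
  -- the Frattini subgroup
  have hfrat : frattini X = omZ X := by
    apply le_antisymm
    · letI : CommGroup (X ⧸ omZ X) :=
        { (inferInstance : Group (X ⧸ omZ X)) with
          mul_comm := by
            intro a b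
            induction a using QuotientGroup.induction_on with
            | H x =>
              induction b using QuotientGroup.induction_on with
              | H y =>
                rw [← QuotientGroup.mk_mul, ← QuotientGroup.mk_mul, QuotientGroup.eq]
                have h := hcomm y⁻¹ x⁻¹
                have e : (x * y)⁻¹ * (y * x) = y⁻¹ * x⁻¹ * y⁻¹⁻¹ * x⁻¹⁻¹ := by group
                rw [e]
                exact h }
      have hker := Cfsg.Agent.Lib.Helper87.frattini_le_ker_of_exponent (p := 2)
        (QuotientGroup.mk' (omZ X)) (by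
          intro g
          rw [← map_pow, pow_two]
          exact (QuotientGroup.eq_one_iff _).mpr (hsq g))
      rwa [QuotientGroup.ker_mk'] at hker
    · rw [← hcommutator, commutator_eq_closure, Subgroup.closure_le]
      rintro g ⟨g₁, g₂, rfl⟩
      rw [commutatorElement_def]
      exact Cfsg.Agent.Lib.Helper87.comm_mem_frattini hX g₁ g₂
  refine ⟨⟨hX, ?_, ?_⟩, hcard, ?_, ?_⟩
  · rw [hfrat, hcenter]
  · rw [hcommutator, hcenter]
  · -- the involutions are the nonidentity elements of `omZ X`
    have hfin : Finite (omZ X) := inferInstance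
    have e : {x : X // orderOf x = 2} ≃ {v : omZ X // v ≠ 1} :=
      { toFun := fun x => ⟨⟨x.1, hinv x.1 ((orderOf_eq_two_iff' x.1).mp x.2).1⟩,
          fun h => ((orderOf_eq_two_iff' x.1).mp x.2).2 (congrArg Subtype.val h)⟩
        invFun := fun v => ⟨v.1.1, (orderOf_eq_two_iff' v.1.1).mpr
          ⟨omZ_sq v.1.2, fun h => v.2 (Subtype.ext h)⟩⟩
        left_inv := fun x => rfl
        right_inv := fun v => rfl }
    rw [Nat.card_congr e]
    have h1 : Nat.card {v : omZ X // v ≠ 1} = Nat.card (omZ X) - 1 := by
      classical
      have := Fintype.ofFinite (omZ X)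
      rw [Nat.card_eq_fintype_card, Nat.card_eq_fintype_card, Fintype.card_subtype_compl,
        Fintype.card_subtype_eq]
    rw [h1, hV]
  · intro x hx
    rw [hcenter]
    exact hinv x ((orderOf_eq_two_iff' x).mp hx).1

end Cfsg.Agent.Lib.Helper37.Scn
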