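import Mathlib
import Cfsg.Agent.Lib.Helper32.Scn.Tools
import Cfsg.Agent.Lib.Helper53.PGroups

/-!
# S1904 package [R]: a 2-group with `SCN_3` empty has no normal subgroup of exponent 2 and
order at least 8.
-/

set_option autoImplicit false

universe u

namespace Cfsg.Agent.Lib.Helper37.Scn

open Cfsg.Agent.Lib.Helper32.Scn

/-- a subgroup of exponent 2 is abelian -/
theorem comm_of_exp_two {X : Type u} [Group X] (E : Subgroup X) (hE2 : ∀ e ∈ E, e * e = 1) :
    ∀ a ∈ E, ∀ b ∈ E, a * b = b * a := by
  intro a ha b hb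
  have ha' : a⁻¹ = a := inv_eq_of_mul_eq_one_left (hE2 a ha)
  have hb' : b⁻¹ = b := inv_eq_of_mul_eq_one_left (hE2 b hb)
  have hab' : (a * b)⁻¹ = a * b := inv_eq_of_mul_eq_one_left (hE2 (a * b) (E.mul_mem ha hb))
  rw [mul_inv_rev, ha', hb'] at hab'
  exact hab'.symm

/-- a maximal normal abelian subgroup of a finite `p`-group is self-centralizing -/
theorem centralizer_eq_of_maximal {X : Type u} [Group X] [Finite X] {p : ℕ} [Fact p.Prime]
    (hX : IsPGroup p X) (B : Subgroup X) (hBn : B.Normal)
    (hBab : ∀ a ∈ B, ∀ b ∈ B, a * b = b * a)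
    (hmax : ∀ B' : Subgroup X, B'.Normal → (∀ a ∈ B', ∀ b ∈ B', a * b = b * a) → B ≤ B' →
      B' ≤ B) :
    Subgroup.centralizer (B : Set X) = B := by
  apply le_antisymm
  · by_contra hnot
    obtain ⟨c, hcC, hcB⟩ := SetLike.not_le_iff_exists.mp hnot
    have hCn : (Subgroup.centralizer (B : Set X)).Normal := Subgroup.normal_centralizer
    have hDn : ((Subgroup.centralizer (B : Set X)).map (QuotientGroup.mk' B)).Normal :=
      Subgroup.Normal.map hCn _ (QuotientGroup.mk'_surjective B)
    have hDne : (Subgroup.centralizer (B : Set X)).map (QuotientGroup.mk' B) ≠ ⊥ := by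
      intro h
      have h1 : QuotientGroup.mk' B c ∈
          (Subgroup.centralizer (B : Set X)).map (QuotientGroup.mk' B) :=
        Subgroup.mem_map_of_mem _ hcC
      rw [h, Subgroup.mem_bot] at h1
      exact hcB ((QuotientGroup.eq_one_iff c).mp h1)
    obtain ⟨z, hzD, hz1, hzc⟩ := Cfsg.Agent.Lib.Helper53.exists_mem_center_of_normal_of_ne_bot
      (hX.to_quotient B) ((Subgroup.centralizer (B : Set X)).map (QuotientGroup.mk' B)) hDne
    obtain ⟨g, hgC, rfl⟩ := Subgroup.mem_map.mp hzD
    have hgB : g ∉ B := fun h => hz1 ((QuotientGroup.eq_one_iff g).mpr h)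
    -- `g` commutes with `B`
    have hgcomm : ∀ b ∈ B, b * g = g * b := fun b hb =>
      Subgroup.mem_centralizer_iff.mp hgC b hb
    -- commutators with `g` lie in `B`
    have hcomm : ∀ x : X, x * g * x⁻¹ * g⁻¹ ∈ B := by
      intro x
      have h1 := Subgroup.mem_center_iff.mp hzc (QuotientGroup.mk' B x)
      have h2 : (QuotientGroup.mk' B (x * g * x⁻¹ * g⁻¹)) = 1 := by
        have e : QuotientGroup.mk' B (x * g * x⁻¹ * g⁻¹) =
            (QuotientGroup.mk' B x * QuotientGroup.mk' B g) *
              (QuotientGroup.mk' B g * QuotientGroup.mk' B x)⁻¹ := by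
          simp only [map_mul, map_inv, mul_inv_rev]
          group
        rw [e, h1, mul_inv_cancel]
      exact (QuotientGroup.eq_one_iff _).mp h2
    -- the bigger subgroup
    have hB'ab1 : B ⊔ Subgroup.zpowers g ≤
        Subgroup.centralizer ((B : Set X) ∪ {g}) := by
      apply sup_le
      · intro b hb
        rw [Subgroup.mem_centralizer_iff]
        rintro m (hm | hm)
        · exact hBab m hm b hb
        · rw [Set.mem_singleton_iff] at hm
          subst hm
          exact (hgcomm b hb).symm
      · rw [Subgroup.zpowers_le, Subgroup.mem_centralizer_iff]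
        rintro m (hm | hm)
        · exact hgcomm m hm
        · rw [Set.mem_singleton_iff] at hm
          subst hm
          rfl
    have hB'ab2 : B ⊔ Subgroup.zpowers g ≤
        Subgroup.centralizer ((B ⊔ Subgroup.zpowers g : Subgroup X) : Set X) := by
      apply sup_le
      · intro b hb
        rw [Subgroup.mem_centralizer_iff]
        intro m hm
        have := Subgroup.mem_centralizer_iff.mp (hB'ab1 hm) b (Or.inl hb)
        exact this.symm
      · rw [Subgroup.zpowers_le, Subgroup.mem_centralizer_iff]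
        intro m hm
        have := Subgroup.mem_centralizer_iff.mp (hB'ab1 hm) g (Or.inr rfl)
        exact this.symm
    have hB'ab : ∀ a ∈ B ⊔ Subgroup.zpowers g, ∀ b ∈ B ⊔ Subgroup.zpowers g, a * b = b * a := by
      intro a ha b hb
      exact (Subgroup.mem_centralizer_iff.mp (hB'ab2 hb) a ha)
    have hB'n : (B ⊔ Subgroup.zpowers g).Normal := by
      constructor
      intro w hw x
      have hle : B ⊔ Subgroup.zpowers g ≤
          (B ⊔ Subgroup.zpowers g).comap (MulAut.conj x).toMonoidHom := by
        apply sup_le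
        · intro b hb
          rw [Subgroup.mem_comap]
          have : (MulAut.conj x).toMonoidHom b = x * b * x⁻¹ := by simp [MulAut.conj_apply]
          rw [this]
          exact Subgroup.mem_sup_left (hBn.conj_mem b hb x)
        · rw [Subgroup.zpowers_le, Subgroup.mem_comap]
          have : (MulAut.conj x).toMonoidHom g = (x * g * x⁻¹ * g⁻¹) * g := by
            simp [MulAut.conj_apply]
          rw [this]
          exact Subgroup.mul_mem _ (Subgroup.mem_sup_left (hcomm x))
            (Subgroup.mem_sup_right (Subgroup.mem_zpowers g))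
      have h1 := hle hw
      rw [Subgroup.mem_comap] at h1
      simpa [MulAut.conj_apply] using h1
    have hle := hmax (B ⊔ Subgroup.zpowers g) hB'n hB'ab le_sup_left
    exact hgB (hle (Subgroup.mem_sup_right (Subgroup.mem_zpowers g)))
  · intro b hb
    rw [Subgroup.mem_centralizer_iff]
    intro m hm
    exact hBab m hm b hb

/-- Package [R] of S1904. -/
theorem lemNoE8 : LemNoE8.{u} := by
  intro X _ _ hX hscn E hEn hE2
  by_contra hcard
  push Not at hcard
  haveI : Fact (Nat.Prime 2) := ⟨Nat.prime_two⟩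
  have hEab := comm_of_exp_two E hE2
  -- a subgroup of order 8 of `E`
  obtain ⟨k, hk⟩ := (hX.to_subgroup E).exists_card_eq
  have hk3 : 3 ≤ k := by
    by_contra h
    push Not at h
    have h4 : Nat.card E ≤ 2 ^ 2 := by
      rw [hk]
      exact Nat.pow_le_pow_right (by norm_num) (by omega)
    omega
  have h8 : 2 ^ 3 ∣ Nat.card E := by
    rw [hk]
    exact pow_dvd_pow 2 hk3
  obtain ⟨K, hK⟩ := Sylow.exists_subgroup_card_pow_prime 2 h8
  have hE0card : Nat.card (K.map E.subtype) = 8 := by
    rw [Subgroup.card_map_of_injective E.subtype_injective, hK]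
    norm_num
  have hE0le : K.map E.subtype ≤ E := Subgroup.map_subtype_le K
  have hE0el : Cfsg.IsElementaryAbelian 2 (K.map E.subtype) := by
    refine ⟨⟨⟨fun a b => Subtype.ext (hEab a.1 (hE0le a.2) b.1 (hE0le b.2))⟩⟩, ?_⟩
    intro a ha
    rw [pow_two]
    exact hE2 a (hE0le ha)
  -- a maximal normal abelian subgroup containing `E`
  obtain ⟨B, hEB, hBmax⟩ := Finite.exists_le_maximal
    (p := fun B : Subgroup X => B.Normal ∧ (∀ a ∈ B, ∀ b ∈ B, a * b = b * a) ∧ E ≤ B) (a := E)
    ⟨hEn, hEab, le_rfl⟩
  obtain ⟨⟨hBn, hBab, hEB'⟩, hmax⟩ := hBmax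
  have hCB := centralizer_eq_of_maximal hX B hBn hBab
    (fun B' hB'n hB'ab hle => hmax ⟨hB'n, hB'ab, hEB'.trans hle⟩ hle)
  exact hscn ⟨B, hBn, hCB, K.map E.subtype, hE0le.trans hEB', hE0el, hE0card⟩

end Cfsg.Agent.Lib.Helper37.Scn
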